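import Mathlib

/-!
An extension of index two by one more element.
-/

set_option autoImplicit false

namespace Cfsg.Lib.J4NonLocal.Unitary

variable {G : Type*} [Group G]

/-- One more element that normalises, squares into and lies outside gives index two. -/
theorem exists_index_two (S : Set G) (σ : G) (hn : ∀ x ∈ S, σ * x * σ⁻¹ ∈ Subgroup.closure S)
    (h2 : σ * σ ∈ Subgroup.closure S) (hσ : σ ∉ Subgroup.closure S) :
    ∃ K : Subgroup ↥(Subgroup.closure (insert σ S)), K.Normal ∧ K.index = 2 ∧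
      Nonempty (↥K ≃* ↥(Subgroup.closure S)) := by
  set H := Subgroup.closure S with hH
  have hle : H ≤ Subgroup.closure (insert σ S) := Subgroup.closure_mono (Set.subset_insert _ _)
  have hc : ∀ h ∈ H, σ * h * σ⁻¹ ∈ H := fun h hh => by
    have : H ≤ H.comap (MulAut.conj σ).toMonoidHom := (Subgroup.closure_le _).2 hn
    exact this hh
  have hc' : ∀ h ∈ H, σ⁻¹ * h * σ ∈ H := fun h hh => by
    have e : σ⁻¹ * h * σ = (σ * σ)⁻¹ * (σ * h * σ⁻¹) * (σ * σ) := by group
    rw [e]
    exact mul_mem (mul_mem (inv_mem h2) (hc h hh)) h2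
  have hcov : ∀ x ∈ Subgroup.closure (insert σ S), x ∈ H ∨ σ⁻¹ * x ∈ H := fun x hx => by
    induction hx using Subgroup.closure_induction with
    | mem y hy =>
      rcases hy with rfl | hy
      · exact Or.inr (by rw [inv_mul_cancel]; exact one_mem H)
      · exact Or.inl (Subgroup.subset_closure hy)
    | one => exact Or.inl (one_mem H)
    | mul a b _ _ ha hb =>
      rcases ha with ha | ha <;> rcases hb with hb | hb
      · exact Or.inl (mul_mem ha hb)
      · refine Or.inr ?_
        have e : σ⁻¹ * (a * b) = σ⁻¹ * a * σ * (σ⁻¹ * b) := by group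
        rw [e]; exact mul_mem (hc' a ha) hb
      · refine Or.inr ?_
        rw [← mul_assoc]; exact mul_mem ha hb
      · refine Or.inl ?_
        have e : a * b = σ * (σ⁻¹ * a) * σ⁻¹ * (σ * σ) * (σ⁻¹ * b) := by group
        rw [e]; exact mul_mem (mul_mem (hc _ ha) h2) hb
    | inv a _ ha =>
      rcases ha with ha | ha
      · exact Or.inl (inv_mem ha)
      · refine Or.inr ?_
        have e : σ⁻¹ * a⁻¹ = σ⁻¹ * (σ⁻¹ * a)⁻¹ * σ * (σ * σ)⁻¹ := by group
        rw [e]; exact mul_mem (hc' _ (inv_mem ha)) (inv_mem h2)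
  let K : Subgroup ↥(Subgroup.closure (insert σ S)) := H.subgroupOf _
  have hidx : K.index = 2 := by
    rw [Subgroup.index_eq_two_iff]
    refine ⟨⟨σ, Subgroup.subset_closure (Set.mem_insert _ _)⟩, fun b => ?_⟩
    simp only [K, Subgroup.mem_subgroupOf, Subgroup.coe_mul]
    rcases hcov b.1 b.2 with hb | hb
    · refine Or.inr ⟨hb, fun h => hσ ?_⟩
      have := mul_mem (inv_mem hb) h
      rwa [inv_mul_cancel_left] at this
    · refine Or.inl ⟨?_, fun h => hσ ?_⟩
      · have e : b.1 * σ = σ * (σ⁻¹ * b.1) * σ⁻¹ * (σ * σ) := by group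
        rw [e]; exact mul_mem (hc _ hb) h2
      · have := mul_mem h (inv_mem hb)
        rwa [mul_inv_rev, inv_inv, mul_inv_cancel_left] at this
  exact ⟨K, Subgroup.normal_of_index_eq_two hidx, hidx, ⟨Subgroup.subgroupOfEquivOfLe hle⟩⟩

end Cfsg.Lib.J4NonLocal.Unitary
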