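import Mathlib

/-!
Relations on four elements for the three-dimensional unitary groups over the fields with 9 and 121 elements.
The commutator of the first two elements is written out by the bracket.
-/

set_option autoImplicit false

namespace Cfsg.Lib.J4NonLocal.Unitary

open scoped commutatorElement

variable {G : Type*} [Group G]

/-- The relations for U₃(3). -/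
structure RelThree (u1 u2 t w : G) : Prop where
  u1_pow : u1 ^ 3 = 1
  u2_pow : u2 ^ 3 = 1
  z_u1 : ⁅u1, u2⁆ * u1 = u1 * ⁅u1, u2⁆
  z_u2 : ⁅u1, u2⁆ * u2 = u2 * ⁅u1, u2⁆
  t_pow : t ^ 8 = 1
  w_sq : w * w = 1
  w_t : w * t * w * t ^ 3 = 1
  t_u1 : t * u1 = u1 ^ 2 * u2 ^ 1 * ⁅u1, u2⁆ ^ 2 * t
  t_u2 : t * u2 = u1 ^ 2 * u2 ^ 2 * ⁅u1, u2⁆ ^ 1 * t
  seed0 : w * ⁅u1, u2⁆ ^ 2 * w = ⁅u1, u2⁆ ^ 1 * t ^ 6 * w * ⁅u1, u2⁆ ^ 1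
  seed1 : w * (u1 ^ 1 * ⁅u1, u2⁆ ^ 2) * w =
    u1 ^ 1 * u2 ^ 1 * t ^ 5 * w * (u1 ^ 1 * u2 ^ 2 * ⁅u1, u2⁆ ^ 1)

/-- The relations for U₃(11). -/
structure RelEleven (u1 u2 t w : G) : Prop where
  u1_pow : u1 ^ 11 = 1
  u2_pow : u2 ^ 11 = 1
  z_u1 : ⁅u1, u2⁆ * u1 = u1 * ⁅u1, u2⁆
  z_u2 : ⁅u1, u2⁆ * u2 = u2 * ⁅u1, u2⁆
  t_pow : t ^ 40 = 1
  w_sq : w * w = 1
  w_t : w * t * w * t ^ 11 = 1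
  t_u1 : t * u1 = u1 ^ 5 * u2 ^ 6 * ⁅u1, u2⁆ ^ 7 * t
  t_u2 : t * u2 = u1 ^ 5 * u2 ^ 5 * ⁅u1, u2⁆ ^ 4 * t
  seed0 : w * ⁅u1, u2⁆ ^ 6 * w = ⁅u1, u2⁆ ^ 5 * t ^ 30 * w * ⁅u1, u2⁆ ^ 5
  seed1 : w * (u1 ^ 1 * ⁅u1, u2⁆ ^ 2) * w =
    u1 ^ 9 * u2 ^ 5 * ⁅u1, u2⁆ ^ 2 * t ^ 13 * w * (u1 ^ 9 * u2 ^ 6 * ⁅u1, u2⁆ ^ 3)
  seed2 : w * (u1 ^ 1 * u2 ^ 4 * ⁅u1, u2⁆ ^ 10) * w =
    u2 ^ 5 * ⁅u1, u2⁆ ^ 5 * t * w * (u1 ^ 3 * u2 ^ 7)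
  seed3 : w * (u1 ^ 7 * u2 ^ 8) * w =
    u1 ^ 4 * u2 ^ 10 * ⁅u1, u2⁆ ^ 1 * t ^ 29 * w * (u1 ^ 5 * u2 ^ 5 * ⁅u1, u2⁆ ^ 3)

end Cfsg.Lib.J4NonLocal.Unitary
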