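import Cfsg.Agent.J4NonLocal.Unitary.Psu
import Cfsg.Agent.J4NonLocal.Unitary.Rels

/-!
Recognition of U₃(3) and U₃(11) from relations on four elements.
-/

set_option autoImplicit false
set_option maxRecDepth 4000

open scoped commutatorElement

namespace Cfsg.Lib.J4NonLocal.Unitary

open Cfsg.Lib.SUPres

instance : Fact (Nat.Prime 3) := ⟨by norm_num⟩

instance : Fact (Nat.Prime 11) := ⟨by norm_num⟩

instance : Fact (∀ r : ZMod 3, r ^ 2 ≠ -1 + 0 * r) := ⟨by decide +kernel⟩

instance : Fact (∀ r : ZMod 11, r ^ 2 ≠ -1 + 0 * r) := ⟨by decide +kernel⟩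

theorem nf_of {q : ℕ} [Fact q.Prime] [Fact (∀ r : ZMod q, r ^ 2 ≠ -1 + 0 * r)] {G : Type*} [Group G] {u1 u2 : G}
    {h : Hp (CG q)} {a b k : ℕ} (e : h.x.re.val = a ∧ h.x.im.val = b ∧ ((h.y.im - h.x.re * h.x.im) / 2).val = k) :
    nf u1 u2 h = u1 ^ a * u2 ^ b * ⁅u1, u2⁆ ^ k := by
  simp only [nf, pw, e.1, e.2.1, e.2.2]

/-- The primitive element for 3. -/
def om3 : (Gq 3)ˣ := ⟨⟨1, 1⟩, ⟨2, 1⟩, by decide +kernel, by decide +kernel⟩

theorem om3_ord : orderOf om3 = 3 ^ 2 - 1 := by
  refine orderOf_eq_of_pow_and_pow_div_prime (by norm_num) (Units.ext (by decide +kernel)) fun p hp hd h => ?_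
  have hle : p ≤ 8 := Nat.le_of_dvd (by norm_num) (by simpa using hd)
  have key : ∀ p ∈ [2], (om3 : Gq 3) ^ (8 / p) ≠ 1 := by decide +kernel
  have hm : p ∈ [2] := by
    have hd' : p ∣ 8 := by simpa using hd
    revert hp hd'; interval_cases p <;> norm_num
  refine key p hm ?_
  simpa using congrArg Units.val h

/-- The data for 3. -/
def prim3 : Prim 3 := ⟨om3, om3_ord, Units.ext (by decide +kernel)⟩

theorem theta3 : Bru.OnCircle (CG 3) ((om3 : Gq 3) ^ 2) := ⟨by decide +kernel, by decide +kernel⟩

theorem theta3_gen (θ : Gq 3) (h : Bru.OnCircle (CG 3) θ) : ∃ k : ℕ, θ = ((om3 : Gq 3) ^ 2) ^ k := by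
  have key : ∀ θ : Gq 3, θ * (CG 3).s θ = 1 → ∃ k : Fin 4, θ = ((om3 : Gq 3) ^ 2) ^ (k : ℕ) := by decide +kernel
  obtain ⟨k, hk⟩ := key θ h.1
  exact ⟨k, hk⟩

/-- The relations give all that is needed for 3. -/
def rels3 {G : Type*} [Group G] {u1 u2 t w : G} (h : RelThree u1 u2 t w) : prim3.Rels u1 u2 t w where
  heis := ⟨h.u1_pow, h.u2_pow, h.z_u1, h.z_u2⟩
  c := 8
  c_dvd := by norm_num
  c_centre := fun k hk => by omega
  t_pow := h.t_pow
  w_sq := h.w_sq
  w_t := h.w_t
  conj1 := by rw [nf_of (a := 2) (b := 1) (k := 2) (by decide +kernel)]; exact h.t_u1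
  conj2 := by rw [nf_of (a := 2) (b := 2) (k := 1) (by decide +kernel)]; exact h.t_u2
  δ := mkH 0 0 1
  δx := by decide +kernel
  seed0 :=
    { a := (mkH 0 0 2)
      k := 6
      b := (mkH 0 0 2)
      ne := by decide +kernel
      ax := by decide +kernel
      ay := by decide +kernel
      tk := by decide +kernel
      bx := by decide +kernel
      b_y := by decide +kernel
      rel := by
        rw [nf_of (a := 0) (b := 0) (k := 2) (by decide +kernel), nf_of (a := 0) (b := 0) (k := 1) (by decide +kernel)]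
        simpa only [pow_zero, pow_one, one_mul, mul_one] using h.seed0 }
  θ := (om3 : Gq 3) ^ 2
  θ_circle := theta3
  θ_gen := theta3_gen
  d := 1
  e := 7
  d_pos := by norm_num
  e_spec := Units.ext (by decide +kernel)
  seeds := fun j => match j with
    | 0 =>
    { a := (mkH 1 1 1)
      k := 5
      b := (mkH 1 2 1)
      ne := by decide +kernel
      ax := by decide +kernel
      ay := by decide +kernel
      tk := by decide +kernel
      bx := by decide +kernel
      b_y := by decide +kernel
      rel := by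
        rw [nf_of (a := 1) (b := 0) (k := 2) (by decide +kernel), nf_of (a := 1) (b := 1) (k := 0) (by decide +kernel), nf_of (a := 1) (b := 2) (k := 1) (by decide +kernel)]
        simpa only [pow_zero, pow_one, one_mul, mul_one] using h.seed1 }

/-- The primitive element for 11. -/
def om11 : (Gq 11)ˣ := ⟨⟨1, 4⟩, ⟨2, 3⟩, by decide +kernel, by decide +kernel⟩

theorem om11_ord : orderOf om11 = 11 ^ 2 - 1 := by
  refine orderOf_eq_of_pow_and_pow_div_prime (by norm_num) (Units.ext (by decide +kernel)) fun p hp hd h => ?_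
  have hle : p ≤ 120 := Nat.le_of_dvd (by norm_num) (by simpa using hd)
  have key : ∀ p ∈ [2, 3, 5], (om11 : Gq 11) ^ (120 / p) ≠ 1 := by decide +kernel
  have hm : p ∈ [2, 3, 5] := by
    have hd' : p ∣ 120 := by simpa using hd
    revert hp hd'; interval_cases p <;> norm_num
  refine key p hm ?_
  simpa using congrArg Units.val h

/-- The data for 11. -/
def prim11 : Prim 11 := ⟨om11, om11_ord, Units.ext (by decide +kernel)⟩

theorem theta11 : Bru.OnCircle (CG 11) ((om11 : Gq 11) ^ 10) := ⟨by decide +kernel, by decide +kernel⟩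

theorem theta11_gen (θ : Gq 11) (h : Bru.OnCircle (CG 11) θ) : ∃ k : ℕ, θ = ((om11 : Gq 11) ^ 10) ^ k := by
  have key : ∀ θ : Gq 11, θ * (CG 11).s θ = 1 → ∃ k : Fin 12, θ = ((om11 : Gq 11) ^ 10) ^ (k : ℕ) := by decide +kernel
  obtain ⟨k, hk⟩ := key θ h.1
  exact ⟨k, hk⟩

/-- The relations give all that is needed for 11. -/
def rels11 {G : Type*} [Group G] {u1 u2 t w : G} (h : RelEleven u1 u2 t w) : prim11.Rels u1 u2 t w where
  heis := ⟨h.u1_pow, h.u2_pow, h.z_u1, h.z_u2⟩
  c := 40
  c_dvd := by norm_num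
  c_centre := fun k hk => by omega
  t_pow := h.t_pow
  w_sq := h.w_sq
  w_t := h.w_t
  conj1 := by rw [nf_of (a := 5) (b := 6) (k := 7) (by decide +kernel)]; exact h.t_u1
  conj2 := by rw [nf_of (a := 5) (b := 5) (k := 4) (by decide +kernel)]; exact h.t_u2
  δ := mkH 0 0 1
  δx := by decide +kernel
  seed0 :=
    { a := (mkH 0 0 10)
      k := 30
      b := (mkH 0 0 10)
      ne := by decide +kernel
      ax := by decide +kernel
      ay := by decide +kernel
      tk := by decide +kernel
      bx := by decide +kernel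
      b_y := by decide +kernel
      rel := by
        rw [nf_of (a := 0) (b := 0) (k := 6) (by decide +kernel), nf_of (a := 0) (b := 0) (k := 5) (by decide +kernel)]
        simpa only [pow_zero, pow_one, one_mul, mul_one] using h.seed0 }
  θ := (om11 : Gq 11) ^ 10
  θ_circle := theta11
  θ_gen := theta11_gen
  d := 3
  e := 13
  d_pos := by norm_num
  e_spec := Units.ext (by decide +kernel)
  seeds := fun j => match j with
    | 0 =>
    { a := (mkH 9 5 5)
      k := 53
      b := (mkH 9 6 5)
      ne := by decide +kernel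
      ax := by decide +kernel
      ay := by decide +kernel
      tk := by decide +kernel
      bx := by decide +kernel
      b_y := by decide +kernel
      rel := by
        rw [nf_of (a := 1) (b := 0) (k := 2) (by decide +kernel), nf_of (a := 9) (b := 5) (k := 2) (by decide +kernel), nf_of (a := 9) (b := 6) (k := 3) (by decide +kernel)]
        rw [show t ^ 53 = t ^ 13 by rw [show 53 = 40 + 13 from rfl, pow_add, show 40 = 40 * 1 from rfl, pow_mul, h.t_pow, one_pow, one_mul]]
        simpa only [pow_zero, pow_one, one_mul, mul_one] using h.seed1 }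
    | 1 =>
    { a := (mkH 0 5 10)
      k := 41
      b := (mkH 3 7 10)
      ne := by decide +kernel
      ax := by decide +kernel
      ay := by decide +kernel
      tk := by decide +kernel
      bx := by decide +kernel
      b_y := by decide +kernel
      rel := by
        rw [nf_of (a := 1) (b := 4) (k := 10) (by decide +kernel), nf_of (a := 0) (b := 5) (k := 5) (by decide +kernel), nf_of (a := 3) (b := 7) (k := 0) (by decide +kernel)]
        rw [show t ^ 41 = t ^ 1 by rw [show 41 = 40 + 1 from rfl, pow_add, show 40 = 40 * 1 from rfl, pow_mul, h.t_pow, one_pow, one_mul]]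
        simpa only [pow_zero, pow_one, one_mul, mul_one] using h.seed2 }
    | 2 =>
    { a := (mkH 4 10 9)
      k := 29
      b := (mkH 5 5 9)
      ne := by decide +kernel
      ax := by decide +kernel
      ay := by decide +kernel
      tk := by decide +kernel
      bx := by decide +kernel
      b_y := by decide +kernel
      rel := by
        rw [nf_of (a := 7) (b := 8) (k := 0) (by decide +kernel), nf_of (a := 4) (b := 10) (k := 1) (by decide +kernel), nf_of (a := 5) (b := 5) (k := 3) (by decide +kernel)]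
        simpa only [pow_zero, pow_one, one_mul, mul_one] using h.seed3 }

/-- Four elements with these relations generate a copy of U₃(3). -/
theorem exists_psu_three {G : Type*} [Group G] {u1 u2 t w : G} (h : RelThree u1 u2 t w) (h1 : u1 ≠ 1) :
    ∃ (F : Type) (_ : Field F) (_ : Fintype F), Fintype.card F = 9 ∧
      ∃ K : Subgroup G, K = Subgroup.closure {u1, u2, t, w} ∧ Nonempty (↥K ≃* Cfsg.PSU 3 F 3) :=
  ⟨Gq 3, inferInstance, inferInstance, card_gq, Prim.Rels.exists_psu (by norm_num) (rels3 h) h1⟩

/-- Four elements with these relations generate a copy of U₃(11). -/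
theorem exists_psu_eleven {G : Type*} [Group G] {u1 u2 t w : G} (h : RelEleven u1 u2 t w) (h1 : u1 ≠ 1) :
    ∃ (F : Type) (_ : Field F) (_ : Fintype F), Fintype.card F = 121 ∧
      ∃ K : Subgroup G, K = Subgroup.closure {u1, u2, t, w} ∧ Nonempty (↥K ≃* Cfsg.PSU 3 F 11) :=
  ⟨Gq 11, inferInstance, inferInstance, card_gq, Prim.Rels.exists_psu (by norm_num) (rels11 h) h1⟩

end Cfsg.Lib.J4NonLocal.Unitary
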