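import Cfsg.Agent.J4NonLocal.Unitary.Heis
import Cfsg.Agent.Pres.SU.SUThree
import Cfsg.Agent.S0283

/-!
A homomorphism from the model of the special unitary group, from the relations on four elements.
-/

set_option autoImplicit false
set_option linter.style.haveILetI false

open scoped commutatorElement

namespace Cfsg.Lib.J4NonLocal.Unitary

open Cfsg.Lib.SUPres

variable {q : ℕ} [Fact q.Prime] [hns : Fact (∀ r : ZMod q, r ^ 2 ≠ -1 + 0 * r)]
variable {G : Type*} [Group G]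


/-- The centre of the model lies in the torus, in the kernel of the cube. -/
theorem center_SJ {F : Type*} [Field F] (C : Conj F) (hne : ∃ h : Hp C, h.y ≠ 0) (h1 : ∃ h : Hp C, h.x ≠ 0)
    {g : SJ C} (hg : g ∈ Subgroup.center (SJ C)) : ∃ s : Fˣ, g = tM C s ∧ s ^ 3 = 1 := by
  have hc := fun x => (Subgroup.mem_center_iff.1 hg x)
  have hwt : ∀ s : Fˣ, wM C * tM C s = tM C (C.su s)⁻¹ * wM C := fun s => by
    rw [← wM_tM, mul_assoc _ (wM C) (wM C), wM_sq, mul_one]
  have hut : ∀ (a : Hp C) (s : Fˣ), uM C a * tM C s = tM C s * uM C (Hp.sc s⁻¹ a) := fun a s => by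
    rw [← tM_uM, map_inv, inv_inv]; group
  rcases cases_cell C g with ⟨a, s, rfl⟩ | ⟨a, b, s, rfl⟩
  · have e := hc (wM C)
    have el : wM C * (uM C a * tM C s) = uM C 1 * tM C (C.su s)⁻¹ * wM C * uM C (Hp.sc s⁻¹ a) := by
      rw [map_one, one_mul, hut, ← mul_assoc, hwt]
    have e' : uM C 1 * tM C (C.su s)⁻¹ * wM C * uM C (Hp.sc s⁻¹ a) = uM C a * tM C s * wM C * uM C 1 := by
      rw [← el, e, map_one, mul_one]
    obtain ⟨ea, es, -⟩ := cell_inj C e'
    subst ea
    refine ⟨s, by rw [map_one, one_mul], ?_⟩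
    obtain ⟨h, hh⟩ := h1
    have e1 := hc (uM C h)
    rw [map_one, one_mul] at e1
    have e2 : uM C (Hp.sc s h) = uM C h := by rw [← tM_uM, ← e1, mul_inv_cancel_right]
    have e3 := congrArg Hp.x (uM_injective C e2)
    have e4 : ((s : F) * C.s s) = 1 := by
      have := congrArg Units.val (congrArg (· * C.su s) es)
      simpa [Conj.coe_su, mul_comm] using this.symm
    refine Units.ext ?_
    have e5 : C.s (s : F) = (s : F)⁻¹ := eq_inv_of_mul_eq_one_right e4
    simp only [Hp.sc, e5, div_inv_eq_mul] at e3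
    rw [Units.val_pow_eq_pow_val, Units.val_one]
    exact mul_right_cancel₀ hh (by linear_combination e3)
  · exfalso
    obtain ⟨h, hh⟩ := hne
    have e := hc (uM C h)
    have el : uM C h * (uM C a * tM C s * wM C * uM C b) = uM C (h * a) * tM C s * wM C * uM C b := by
      rw [map_mul]; group
    have er : uM C a * tM C s * wM C * uM C b * uM C h = uM C a * tM C s * wM C * uM C (b * h) := by
      rw [map_mul]; group
    rw [el, er] at e
    have := (cell_inj C e).1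
    exact hh (by rw [mul_eq_right.1 this]; rfl)

/-- A primitive element of the field, with the data for the seeds. -/
structure Prim (q : ℕ) [Fact q.Prime] [Fact (∀ r : ZMod q, r ^ 2 ≠ -1 + 0 * r)] where
  /-- The generator. -/
  ω : (Gq q)ˣ
  ord : orderOf ω = q ^ 2 - 1
  s_ω : (CG q).su ω = ω ^ q

namespace Prim

variable (D : Prim q)

theorem gen (a : (Gq q)ˣ) : ∃ k : ℕ, D.ω ^ k = a := by
  have h : Subgroup.zpowers D.ω = ⊤ := Subgroup.eq_top_of_card_eq _ (by
    rw [Nat.card_zpowers, D.ord, Nat.card_units, Nat.card_eq_fintype_card, card_gq])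
  have ha : a ∈ Subgroup.zpowers D.ω := h ▸ Subgroup.mem_top a
  exact mem_powers_iff_mem_zpowers.2 ha

include D in
theorem s_eq (a : Gq q) : (CG q).s a = a ^ q := by
  by_cases h : a = 0
  · subst h
    rw [map_zero, zero_pow (Fact.out : q.Prime).ne_zero]
  · obtain ⟨k, hk⟩ := D.gen (Units.mk0 a h)
    have e : ((CG q).su (Units.mk0 a h)) = (Units.mk0 a h) ^ q := by
      rw [← hk, map_pow, D.s_ω, ← pow_mul, ← pow_mul, mul_comm]
    exact congrArg Units.val e

include D in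
theorem cg_eq_std : CG q = stdConj (card_gq (q := q)) := by
  have e : (CG q).s = (stdConj (card_gq (q := q))).s := RingHom.ext fun a => by rw [D.s_eq, stdConj_s]
  rcases hC : CG q with ⟨s, hs⟩
  rw [hC] at e
  revert e
  generalize stdConj (card_gq (q := q)) = D'
  obtain ⟨s', hs'⟩ := D'
  rintro rfl
  rfl

/-- A seed: an instance of the relation between the two cells. -/
structure Seed (u1 u2 t w : G) (u : Hp (CG q)) where
  /-- The left part. -/
  a : Hp (CG q)
  /-- The exponent of the torus part. -/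
  k : ℕ
  /-- The right part. -/
  b : Hp (CG q)
  ne : u.y ≠ 0
  ax : a.x * (CG q).s u.y = -u.x
  ay : a.y * u.y = 1
  tk : (D.ω : Gq q) ^ k * (CG q).s u.y = 1
  bx : b.x * u.y = -u.x
  b_y : b.y * u.y = 1
  rel : w * nf u1 u2 u * w = nf u1 u2 a * t ^ k * w * nf u1 u2 b

theorem Seed.model {u1 u2 t w : G} {u : Hp (CG q)} (S : D.Seed u1 u2 t w u) :
    wM (CG q) * uM _ u * wM _ = uM _ S.a * tM _ (D.ω ^ S.k) * wM _ * uM _ S.b := by
  have hs := (CG q).ne_zero S.ne
  have e1 : Lp (CG q) u = S.a := Hp.ext' (by simp only [Lp]; rw [div_eq_iff hs, S.ax])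
    (by simp only [Lp]; exact (eq_inv_of_mul_eq_one_left S.ay).symm)
  have e2 : Rp (CG q) u = S.b := Hp.ext' (by simp only [Rp]; rw [div_eq_iff S.ne, S.bx])
    (by simp only [Rp]; exact (eq_inv_of_mul_eq_one_left S.b_y).symm)
  have e3 : tp (CG q) u = D.ω ^ S.k := Units.ext (by
    rw [coe_tp _ S.ne, Units.val_pow_eq_pow_val]; exact (eq_inv_of_mul_eq_one_left S.tk).symm)
  rw [← e1, ← e2, ← e3]
  exact wM_uM _ S.ne

/-- All the relations on four elements. -/
structure Rels (u1 u2 t w : G) where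
  heis : Heis q u1 u2
  /-- An exponent of the torus. -/
  c : ℕ
  c_dvd : c ∣ q ^ 2 - 1
  c_centre : ∀ k : ℕ, q ^ 2 - 1 ∣ 3 * k → c ∣ k
  t_pow : t ^ c = 1
  w_sq : w * w = 1
  w_t : w * t * w * t ^ q = 1
  conj1 : t * u1 = nf u1 u2 (Hp.sc D.ω (p1 : Hp (CG q))) * t
  conj2 : t * u2 = nf u1 u2 (Hp.sc D.ω (p2 : Hp (CG q))) * t
  /-- A point above zero. -/
  δ : Hp (CG q)
  δx : δ.x = 0
  seed0 : D.Seed u1 u2 t w δ
  /-- A generator of the circle. -/
  θ : Gq q
  θ_circle : Bru.OnCircle (CG q) θ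
  θ_gen : ∀ θ', Bru.OnCircle (CG q) θ' → ∃ k : ℕ, θ' = θ ^ k
  /-- The number of seeds. -/
  d : ℕ
  /-- The exponent that reduces to the seeds. -/
  e : ℕ
  d_pos : 0 < d
  e_spec : D.ω ^ (2 * e) = D.ω ^ (q * e) * D.ω ^ d
  seeds : ∀ j : Fin d, D.Seed u1 u2 t w (Bru.pt θ_circle ((D.ω : Gq q) ^ (j : ℕ)))

theorem hp_hom_ext {H : Type*} [Group H] {f g : Hp (CG q) →* H} (h1 : f p1 = g p1) (h2 : f p2 = g p2) : f = g :=
  MonoidHom.ext fun h => by rw [← nf_self h, map_nf, map_nf, h1, h2]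

theorem nf_p1 {u1 u2 : G} : nf u1 u2 (p1 : Hp (CG q)) = u1 := by
  simp [nf, pw, p1, mkH, ZMod.val_one]

theorem nf_p2 {u1 u2 : G} : nf u1 u2 (p2 : Hp (CG q)) = u2 := by
  simp [nf, pw, p2, mkH, ZMod.val_one]

/-- The homomorphism from the model, and the centre in its kernel. -/
theorem Rels.exists_hom {u1 u2 t w : G} (R : D.Rels u1 u2 t w) :
    ∃ φ : SJ (CG q) →* G, φ (uM _ p1) = u1 ∧ φ.range = Subgroup.closure {u1, u2, t, w} ∧
      ∀ g ∈ Subgroup.center (SJ (CG q)), φ g = 1 := by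
  classical
  let U1 : SJ (CG q) × G := (uM _ p1, u1)
  let U2 : SJ (CG q) × G := (uM _ p2, u2)
  let T : SJ (CG q) × G := (tM _ D.ω, t)
  let W : SJ (CG q) × G := (wM _, w)
  let S : Subgroup (SJ (CG q) × G) := Subgroup.closure {U1, U2, T, W}
  let v1 : S := ⟨U1, Subgroup.subset_closure (by simp)⟩
  let v2 : S := ⟨U2, Subgroup.subset_closure (by simp)⟩
  let vt : S := ⟨T, Subgroup.subset_closure (by simp)⟩
  let vw : S := ⟨W, Subgroup.subset_closure (by simp)⟩
  let fst : S →* SJ (CG q) := (MonoidHom.fst _ _).comp S.subtype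
  let snd : S →* G := (MonoidHom.snd _ _).comp S.subtype
  have hpair : ∀ x y : S, fst x = fst y → snd x = snd y → x = y := fun x y h h' => Subtype.ext (Prod.ext h h')
  have hH := (heis_hp (q := q)).map (uM (CG q))
  have K : Heis q v1 v2 := by
    refine ⟨hpair _ _ ?_ ?_, hpair _ _ ?_ ?_, hpair _ _ ?_ ?_, hpair _ _ ?_ ?_⟩ <;>
      simp only [map_pow, map_one, map_mul, map_commutatorElement]
    exacts [hH.u1_pow, R.heis.u1_pow, hH.u2_pow, R.heis.u2_pow, hH.z_u1, R.heis.z_u1, hH.z_u2, R.heis.z_u2]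
  have hfψ : ∀ h, fst (K.hom h) = uM _ h := fun h => by
    rw [K.hom_apply, map_nf]
    exact (map_nf (uM (CG q)) p1 p2 h).symm.trans (by rw [nf_self])
  have hsψ : ∀ h, snd (K.hom h) = nf u1 u2 h := fun h => by rw [K.hom_apply, map_nf]; rfl
  have hn : t ^ (q ^ 2 - 1) = 1 := by
    obtain ⟨m, hm⟩ := R.c_dvd
    rw [hm, pow_mul, R.t_pow, one_pow]
  have hvt : vt ^ (q ^ 2 - 1) = 1 := hpair _ _ (by
    rw [map_pow, map_one]; show tM _ D.ω ^ _ = _
    rw [← map_pow, ← D.ord, pow_orderOf_eq_one, map_one]) (by rw [map_pow, map_one]; exact hn)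
  have hzp : ∀ a : (Gq q)ˣ, a ∈ Subgroup.zpowers D.ω := fun a => by
    obtain ⟨k, hk⟩ := D.gen a
    exact hk ▸ pow_mem (Subgroup.mem_zpowers _) k
  let τ : (Gq q)ˣ →* S := monoidHomOfForallMemZpowers hzp (g' := vt) (by
    rw [D.ord]; exact orderOf_dvd_of_pow_eq_one hvt)
  have hτ : ∀ k : ℕ, τ (D.ω ^ k) = vt ^ k := fun k => by rw [map_pow, monoidHomOfForallMemZpowers_apply_gen]
  have hfτ : ∀ a, fst (τ a) = tM _ a := fun a => by
    obtain ⟨k, rfl⟩ := D.gen a
    rw [hτ, map_pow, map_pow]; rfl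
  have hconj : ∀ h, vt * K.hom h * vt⁻¹ = K.hom (Hp.sc D.ω h) := by
    let sc : Hp (CG q) →* Hp (CG q) := MonoidHom.mk' (Hp.sc D.ω) fun a b => uM_injective _ (by
      rw [map_mul, ← tM_uM, ← tM_uM, ← tM_uM, map_mul]; group)
    have e : (MulAut.conj vt).toMonoidHom.comp K.hom = K.hom.comp sc := by
      refine hp_hom_ext ?_ ?_
      · show vt * K.hom p1 * vt⁻¹ = K.hom (Hp.sc D.ω p1)
        refine hpair _ _ ?_ ?_
        · simp only [map_mul, map_inv, hfψ]; exact tM_uM _ _ _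
        · simp only [map_mul, map_inv, hsψ, nf_p1]; exact mul_inv_eq_iff_eq_mul.2 R.conj1
      · show vt * K.hom p2 * vt⁻¹ = K.hom (Hp.sc D.ω p2)
        refine hpair _ _ ?_ ?_
        · simp only [map_mul, map_inv, hfψ]; exact tM_uM _ _ _
        · simp only [map_mul, map_inv, hsψ, nf_p2]; exact mul_inv_eq_iff_eq_mul.2 R.conj2
    exact fun h => DFunLike.congr_fun e h
  have hw2 : vw * vw = 1 := hpair _ _ (by rw [map_mul, map_one]; exact wM_sq _) (by
    rw [map_mul, map_one]; exact R.w_sq)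
  have hgen : Subgroup.closure (Set.range K.hom ∪ Set.range τ ∪ {vw}) = ⊤ := by
    have k1 : v1 ∈ Set.range K.hom := ⟨p1, (K.hom_apply p1).trans (nf_p1 (u1 := v1) (u2 := v2))⟩
    have k2 : v2 ∈ Set.range K.hom := ⟨p2, (K.hom_apply p2).trans (nf_p2 (u1 := v1) (u2 := v2))⟩
    have k3 : vt ∈ Set.range τ := ⟨D.ω, by simpa only [pow_one] using hτ 1⟩
    have key : S ≤ (Subgroup.closure (Set.range K.hom ∪ Set.range τ ∪ {vw})).map S.subtype := by
      refine (Subgroup.closure_le _).2 ?_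
      rintro y (rfl | rfl | rfl | rfl)
      · exact ⟨v1, Subgroup.subset_closure (Or.inl (Or.inl k1)), rfl⟩
      · exact ⟨v2, Subgroup.subset_closure (Or.inl (Or.inl k2)), rfl⟩
      · exact ⟨vt, Subgroup.subset_closure (Or.inl (Or.inr k3)), rfl⟩
      · exact ⟨vw, Subgroup.subset_closure (Or.inr rfl), rfl⟩
    refine eq_top_iff.2 fun x _ => ?_
    obtain ⟨y, hy, e⟩ := key x.2
    have ex : y = x := Subtype.ext e
    rwa [ex] at hy
  let B : Bru (CG q) S :=
    { ψ := K.hom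
      τ := τ
      w := vw
      Φ := fst
      Φ_ψ := hfψ
      Φ_τ := hfτ
      Φ_w := rfl
      conj := fun a h => by
        obtain ⟨k, rfl⟩ := D.gen a
        rw [hτ]
        induction k generalizing h with
        | zero =>
          rw [pow_zero, pow_zero]
          have : Hp.sc (1 : (Gq q)ˣ) h = h := Hp.ext' (by simp [Hp.sc]) (by simp [Hp.sc])
          rw [this]; simp
        | succ k ih => rw [pow_succ' D.ω, sc_sc, ← hconj, ← ih, pow_succ']; group
      w_sq := hw2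
      w_τ := fun a => by
        obtain ⟨k, rfl⟩ := D.gen a
        refine hpair _ _ ?_ ?_
        · simp only [map_mul, hfτ]; exact wM_tM _ _
        · have e3 : (CG q).su (D.ω ^ k) = D.ω ^ (q * k) := by rw [map_pow, D.s_ω, ← pow_mul]
          simp only [map_mul, e3, map_inv, hτ, map_pow]
          show w * t ^ k * w = (t ^ (q * k))⁻¹
          have e1 : w * t * w = (t ^ q)⁻¹ := eq_inv_of_mul_eq_one_left R.w_t
          have e2 : w * t ^ k * w = (w * t * w) ^ k := by
            nth_rw 2 4 [show w = w⁻¹ from (inv_eq_of_mul_eq_one_right R.w_sq).symm]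
            rw [conj_pow]
          rw [e2, e1, inv_pow, pow_mul]
      gen := hgen }
  have hgood : ∀ {u : Hp (CG q)}, D.Seed u1 u2 t w u → B.Good u := fun {u} Su => by
    refine B.good_of (a := Su.a) (s := D.ω ^ Su.k) (b := Su.b) (hpair _ _ ?_ ?_)
    · simp only [Bru.cell, map_mul, B, hfψ, hfτ]; exact Su.model
    · simp only [Bru.cell, map_mul, B, hsψ, hτ, map_pow]; exact Su.rel
  have hR : ∀ x : Gq q, x ≠ 0 → ∃ r ∈ Set.range fun j : Fin R.d => (D.ω : Gq q) ^ (j : ℕ),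
      ∃ a : (Gq q)ˣ, x = (a : Gq q) ^ 2 / (CG q).s a * r := fun x hx => by
    obtain ⟨m, hm⟩ := D.gen (Units.mk0 x hx)
    refine ⟨_, ⟨⟨m % R.d, Nat.mod_lt _ R.d_pos⟩, rfl⟩, D.ω ^ (R.e * (m / R.d)), ?_⟩
    have e1 : (D.ω : Gq q) ^ m = x := by simpa using congrArg Units.val hm
    have e2 : (D.ω : Gq q) ^ (2 * R.e) = (D.ω : Gq q) ^ (q * R.e) * (D.ω : Gq q) ^ R.d := by
      simpa using congrArg Units.val R.e_spec
    have e3 : (CG q).s (D.ω : Gq q) = (D.ω : Gq q) ^ q := D.s_eq _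
    have e4 : (((D.ω ^ (R.e * (m / R.d)) : (Gq q)ˣ) : Gq q)) ^ 2 =
        (D.ω : Gq q) ^ (R.d * (m / R.d)) * (CG q).s ((D.ω ^ (R.e * (m / R.d)) : (Gq q)ˣ) : Gq q) := by
      rw [Units.val_pow_eq_pow_val, map_pow, e3, ← pow_mul, ← pow_mul, show R.e * (m / R.d) * 2 = 2 * R.e * (m / R.d) by ring,
        show q * (R.e * (m / R.d)) = q * R.e * (m / R.d) by ring, pow_mul, e2, mul_pow, ← pow_mul, ← pow_mul, mul_comm]
    rw [e4, mul_div_cancel_right₀ _ ((CG q).ne_zero (Units.ne_zero _)), ← pow_add, Nat.div_add_mod, e1]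
  have hbij := B.bijective (B.good_all (δ := R.δ) R.δx R.seed0.ne (hgood R.seed0) R.θ_circle R.θ_gen _ hR
    (fun r ⟨j, hj⟩ => hj ▸ hgood (R.seeds j)))
  let e : S ≃* SJ (CG q) := MulEquiv.ofBijective fst hbij
  let φ : SJ (CG q) →* G := snd.comp e.symm.toMonoidHom
  have hφ : ∀ x : S, φ (fst x) = snd x := fun x => congrArg snd (e.symm_apply_apply x)
  refine ⟨φ, hφ v1, ?_, fun g hg => ?_⟩
  · rw [MonoidHom.range_eq_map, ← Subgroup.map_map, Subgroup.map_top_of_surjective _ e.symm.surjective,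
      ← MonoidHom.range_eq_map, MonoidHom.range_comp, Subgroup.range_subtype, MonoidHom.map_closure]
    congr 1
    simp [Set.image_insert_eq, U1, U2, T, W]
  · obtain ⟨s, rfl, hs⟩ := center_SJ _ ⟨R.δ, R.seed0.ne⟩ ⟨p1, by simp [p1, mkH, QuadraticAlgebra.ext_iff]⟩ hg
    obtain ⟨k, rfl⟩ := D.gen s
    have hk : φ (tM _ (D.ω ^ k)) = t ^ k := by
      rw [← hfτ, hφ, hτ, map_pow]; rfl
    rw [hk]
    rw [← pow_mul] at hs
    obtain ⟨m, hm⟩ := R.c_centre k (by rw [mul_comm, ← D.ord]; exact orderOf_dvd_of_pow_eq_one hs)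
    rw [hm, pow_mul, R.t_pow, one_pow]

end Prim

end Cfsg.Lib.J4NonLocal.Unitary
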