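import Mathlib
import Cfsg.Agent.Pres.SU.Model

/-!
The field with `q²` elements as the Gaussian numbers modulo `q`, and coordinates on the unipotent radical.
-/

set_option autoImplicit false

namespace Cfsg.Lib.J4NonLocal.Unitary

open Cfsg.Lib.SUPres
open Cfsg.Lib.Classical (IsConj)

/-- The Gaussian numbers modulo `q`. -/
abbrev Gq (q : ℕ) : Type := QuadraticAlgebra (ZMod q) (-1) 0

variable {q : ℕ} [Fact q.Prime] [hns : Fact (∀ r : ZMod q, r ^ 2 ≠ -1 + 0 * r)]

instance : Fintype (Gq q) := Fintype.ofEquiv _ (QuadraticAlgebra.equivProd (-1 : ZMod q) 0).symm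

theorem card_gq : Fintype.card (Gq q) = q ^ 2 := by
  rw [Fintype.card_congr (QuadraticAlgebra.equivProd (-1 : ZMod q) 0), Fintype.card_prod, ZMod.card, sq]

theorem two_ne : (2 : ZMod q) ≠ 0 := fun h => hns.out 1 (by linear_combination h)

/-- Conjugation. -/
def conjHom : Gq q →+* Gq q where
  toFun z := ⟨z.re, -z.im⟩
  map_one' := by
    ext
    · rfl
    · exact neg_zero
  map_mul' x y := by ext <;> simp <;> ring
  map_zero' := by ext <;> simp
  map_add' x y := by ext <;> simp <;> ring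

theorem conjHom_isConj : IsConj (conjHom (q := q)) :=
  ⟨fun a => by ext <;> simp [conjHom], ⟨⟨0, 1⟩, fun h => by
    have h1 := congrArg QuadraticAlgebra.im h
    simp only [conjHom, RingHom.coe_mk, MonoidHom.coe_mk, OneHom.coe_mk] at h1
    exact two_ne (q := q) (by linear_combination -h1)⟩⟩

/-- The involutory automorphism. -/
def CG (q : ℕ) [Fact q.Prime] [Fact (∀ r : ZMod q, r ^ 2 ≠ -1 + 0 * r)] : Conj (Gq q) := ⟨conjHom, conjHom_isConj⟩

theorem cg_re (z : Gq q) : ((CG q).s z).re = z.re := rfl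

theorem cg_im (z : Gq q) : ((CG q).s z).im = -z.im := rfl

/-- The point with given coordinates. -/
def mkH (a b c : ZMod q) : Hp (CG q) :=
  ⟨⟨a, b⟩, ⟨-(a ^ 2 + b ^ 2) / 2, c⟩, by
    have h2 := two_ne (q := q)
    ext
    · simp [cg_re, cg_im]
      field_simp
      ring
    · simp [cg_re, cg_im]
      ring⟩

theorem y_re (h : Hp (CG q)) : h.y.re = -(h.x.re ^ 2 + h.x.im ^ 2) / 2 := by
  have h1 := congrArg QuadraticAlgebra.re h.cond
  simp [cg_re, cg_im] at h1
  rw [eq_div_iff (two_ne (q := q))]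
  linear_combination h1

theorem hp_ext {g h : Hp (CG q)} (ha : g.x.re = h.x.re) (hb : g.x.im = h.x.im) (hc : g.y.im = h.y.im) : g = h :=
  Hp.ext' (QuadraticAlgebra.ext ha hb) (QuadraticAlgebra.ext (by rw [y_re, y_re, ha, hb]) hc)

theorem mul_re (g h : Hp (CG q)) : (g * h).x.re = g.x.re + h.x.re := by simp [Hp.mul_x]

theorem mul_im (g h : Hp (CG q)) : (g * h).x.im = g.x.im + h.x.im := by simp [Hp.mul_x]

theorem mul_c (g h : Hp (CG q)) :
    (g * h).y.im = g.y.im + h.y.im + (g.x.re * h.x.im - g.x.im * h.x.re) := by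
  simp [Hp.mul_y, cg_re, cg_im]
  ring

end Cfsg.Lib.J4NonLocal.Unitary
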