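import Cfsg.Agent.J4NonLocal.Unitary.Field

/-!
The unipotent radical is the free group of exponent `q` and class two on two elements.
-/

set_option autoImplicit false

open scoped commutatorElement

namespace Cfsg.Lib.J4NonLocal.Unitary

open Cfsg.Lib.SUPres

variable {q : ℕ} [Fact q.Prime] [hns : Fact (∀ r : ZMod q, r ^ 2 ≠ -1 + 0 * r)]
variable {G H : Type*} [Group G] [Group H]

/-- A power with exponent modulo `q`. -/
def pw (g : G) (x : ZMod q) : G := g ^ x.val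

theorem pow_eq_pw {g : G} (hg : g ^ q = 1) (n : ℕ) : g ^ n = pw (q := q) g (n : ZMod q) := by
  rw [pw, ZMod.val_natCast, ← pow_eq_pow_mod n hg]

theorem pw_add {g : G} (hg : g ^ q = 1) (x y : ZMod q) : pw g (x + y) = pw g x * pw g y := by
  unfold pw
  rw [← pow_add, ZMod.val_add, ← pow_eq_pow_mod _ hg]

theorem pw_mul {g : G} (hg : g ^ q = 1) (x y : ZMod q) : pw g (x * y) = g ^ (x.val * y.val) := by
  unfold pw
  rw [ZMod.val_mul, ← pow_eq_pow_mod _ hg]

theorem pw_zero (g : G) : pw (q := q) g (0 : ZMod q) = 1 := by simp [pw]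

theorem pw_neg {g : G} (hg : g ^ q = 1) (x : ZMod q) : pw g (-x) = (pw g x)⁻¹ :=
  eq_inv_of_mul_eq_one_left (by rw [← pw_add hg, neg_add_cancel, pw_zero])

/-- The relations of the radical. -/
structure Heis (q : ℕ) (u1 u2 : G) : Prop where
  u1_pow : u1 ^ q = 1
  u2_pow : u2 ^ q = 1
  z_u1 : Commute ⁅u1, u2⁆ u1
  z_u2 : Commute ⁅u1, u2⁆ u2

/-- The normal form of a point. -/
def nf (u1 u2 : G) (h : Hp (CG q)) : G :=
  pw u1 h.x.re * pw u2 h.x.im * pw ⁅u1, u2⁆ ((h.y.im - h.x.re * h.x.im) / 2)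

theorem map_pw (f : G →* H) (g : G) (x : ZMod q) : f (pw g x) = pw (f g) x := map_pow f g _

theorem map_nf (f : G →* H) (u1 u2 : G) (h : Hp (CG q)) : f (nf u1 u2 h) = nf (f u1) (f u2) h := by
  simp only [nf, map_mul, map_pw, map_commutatorElement]

omit hns in
theorem Heis.u1_u2 {u1 u2 : G} (K : Heis q u1 u2) (a b : ℕ) :
    u1 ^ a * u2 ^ b = ⁅u1, u2⁆ ^ (a * b) * (u2 ^ b * u1 ^ a) := by
  have e1 : u1 * u2 = ⁅u1, u2⁆ * u2 * u1 := by simp [commutatorElement_def, mul_assoc]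
  have h1 := K.z_u1
  have h2 := K.z_u2
  generalize ⁅u1, u2⁆ = z at e1 h1 h2 ⊢
  have e2 : ∀ b : ℕ, u1 * u2 ^ b = z ^ b * u2 ^ b * u1 := fun b => by
    induction b with
    | zero => simp
    | succ b ih =>
      calc u1 * u2 ^ (b + 1) = u1 * u2 ^ b * u2 := by rw [pow_succ, mul_assoc]
        _ = z ^ b * u2 ^ b * (u1 * u2) := by rw [ih, mul_assoc]
        _ = z ^ b * (u2 ^ b * z) * u2 * u1 := by rw [e1]; simp only [mul_assoc]
        _ = _ := by rw [((h2.pow_right b).symm).eq, pow_succ, pow_succ]; simp only [mul_assoc]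
  induction a with
  | zero => simp
  | succ a ih =>
    calc u1 ^ (a + 1) * u2 ^ b = u1 * (u1 ^ a * u2 ^ b) := by rw [pow_succ', mul_assoc]
      _ = z ^ (a * b) * (u1 * u2 ^ b) * u1 ^ a := by
        rw [ih, ← mul_assoc, ← ((h1.pow_left (a * b)).eq)]; simp only [mul_assoc]
      _ = _ := by rw [e2, add_one_mul, pow_add, pow_succ']; simp only [mul_assoc]

omit hns in
theorem Heis.z_pow {u1 u2 : G} (K : Heis q u1 u2) : ⁅u1, u2⁆ ^ q = 1 := by
  have h := K.u1_u2 q 1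
  rwa [K.u1_pow, one_mul, mul_one, mul_one, pow_one, right_eq_mul] at h

/-- The homomorphism given by the normal form. -/
def Heis.hom {u1 u2 : G} (K : Heis q u1 u2) : Hp (CG q) →* G :=
  MonoidHom.mk' (nf u1 u2) fun g h => by
    have h2 := two_ne (q := q)
    have ek : ((g * h).y.im - (g * h).x.re * (g * h).x.im) / 2 =
        (g.y.im - g.x.re * g.x.im) / 2 + -(h.x.re * g.x.im) + (h.y.im - h.x.re * h.x.im) / 2 := by
      rw [mul_re, mul_im, mul_c]
      field_simp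
      ring
    have hz := K.z_pow
    have e := K.u1_u2 h.x.re.val g.x.im.val
    have c1 := K.z_u1
    have c2 := K.z_u2
    rw [nf, nf, nf, ek]
    simp only [mul_re, mul_im, pw_add K.u1_pow, pw_add K.u2_pow, pw_add hz, pw_neg hz, pw_mul hz]
    simp only [pw]
    generalize ⁅u1, u2⁆ = z at e c1 c2 ⊢
    generalize g.x.re.val = a, h.x.re.val = a', g.x.im.val = b, h.x.im.val = b' at e ⊢
    generalize ((g.y.im - g.x.re * g.x.im) / 2).val = k, ((h.y.im - h.x.re * h.x.im) / 2).val = k'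
    have e' : u2 ^ b * u1 ^ a' = (z ^ (a' * b))⁻¹ * (u1 ^ a' * u2 ^ b) := eq_inv_mul_of_mul_eq e.symm
    have d1 : ∀ n m : ℕ, Commute (z ^ n) (u1 ^ m) := fun n m => c1.pow_pow n m
    have d2 : ∀ n m : ℕ, Commute (z ^ n) (u2 ^ m) := fun n m => c2.pow_pow n m
    set c := a' * b
    calc u1 ^ a * u1 ^ a' * (u2 ^ b * u2 ^ b') * (z ^ k * (z ^ c)⁻¹ * z ^ k')
        = u1 ^ a * (u1 ^ a' * u2 ^ b) * (u2 ^ b' * (z ^ c)⁻¹) * (z ^ k * z ^ k') := by
          rw [((Commute.refl z).pow_pow k c).inv_right.eq]; simp only [mul_assoc]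
      _ = u1 ^ a * ((u1 ^ a' * u2 ^ b) * (z ^ c)⁻¹) * (u2 ^ b' * z ^ k) * z ^ k' := by
          rw [((d2 c b').inv_left).symm.eq]; simp only [mul_assoc]
      _ = u1 ^ a * (u2 ^ b * u1 ^ a') * (z ^ k * u2 ^ b') * z ^ k' := by
          rw [e', ((((d1 c a').mul_right (d2 c b)).inv_left).symm).eq, (d2 k b').symm.eq]
      _ = u1 ^ a * u2 ^ b * (u1 ^ a' * z ^ k) * u2 ^ b' * z ^ k' := by simp only [mul_assoc]
      _ = _ := by rw [(d1 k a').symm.eq]; simp only [mul_assoc]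

theorem Heis.hom_apply {u1 u2 : G} (K : Heis q u1 u2) (h : Hp (CG q)) : K.hom h = nf u1 u2 h := rfl

/-- The first generator. -/
def p1 : Hp (CG q) := mkH 1 0 0

/-- The second generator. -/
def p2 : Hp (CG q) := mkH 0 1 0

theorem p1_pow : ∀ n : ℕ, (p1 : Hp (CG q)) ^ n = mkH (n : ZMod q) 0 0
  | 0 => hp_ext (by simp [mkH, Hp.one_x]) (by simp [mkH, Hp.one_x]) (by simp [mkH, Hp.one_y])
  | n + 1 => by
    rw [pow_succ, p1_pow n]
    exact hp_ext (by simp [mul_re, mkH, p1]) (by simp [mul_im, mkH, p1]) (by simp [mul_c, mkH, p1])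

theorem p2_pow : ∀ n : ℕ, (p2 : Hp (CG q)) ^ n = mkH 0 (n : ZMod q) 0
  | 0 => hp_ext (by simp [mkH, Hp.one_x]) (by simp [mkH, Hp.one_x]) (by simp [mkH, Hp.one_y])
  | n + 1 => by
    rw [pow_succ, p2_pow n]
    exact hp_ext (by simp [mul_re, mkH, p2]) (by simp [mul_im, mkH, p2]) (by simp [mul_c, mkH, p2])

theorem p_comm : ⁅(p1 : Hp (CG q)), (p2 : Hp (CG q))⁆ = mkH 0 0 2 := by
  rw [commutatorElement_def]
  refine hp_ext ?_ ?_ ?_ <;>
    simp [mul_re, mul_im, mul_c, Hp.inv_x, Hp.inv_y, cg_im, mkH, p1, p2] <;> ring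

theorem z_pows : ∀ n : ℕ, (mkH 0 0 2 : Hp (CG q)) ^ n = mkH 0 0 (2 * (n : ZMod q))
  | 0 => hp_ext (by simp [mkH, Hp.one_x]) (by simp [mkH, Hp.one_x]) (by simp [mkH, Hp.one_y])
  | n + 1 => by
    rw [pow_succ, z_pows n]
    exact hp_ext (by simp [mul_re, mkH]) (by simp [mul_im, mkH]) (by simp [mul_c, mkH]; ring)

theorem heis_hp : Heis q (p1 : Hp (CG q)) p2 where
  u1_pow := by
    rw [p1_pow, ZMod.natCast_self]
    exact hp_ext (by simp [mkH, Hp.one_x]) (by simp [mkH, Hp.one_x]) (by simp [mkH, Hp.one_y])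
  u2_pow := by
    rw [p2_pow, ZMod.natCast_self]
    exact hp_ext (by simp [mkH, Hp.one_x]) (by simp [mkH, Hp.one_x]) (by simp [mkH, Hp.one_y])
  z_u1 := by
    rw [p_comm]
    exact hp_ext (by simp [mul_re, mkH, p1]) (by simp [mul_im, mkH, p1]) (by simp [mul_c, mkH, p1])
  z_u2 := by
    rw [p_comm]
    exact hp_ext (by simp [mul_re, mkH, p2]) (by simp [mul_im, mkH, p2]) (by simp [mul_c, mkH, p2])

theorem nf_self (h : Hp (CG q)) : nf p1 p2 h = h := by
  have h2 := two_ne (q := q)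
  simp only [nf, pw, p_comm, p1_pow, p2_pow, z_pows, ZMod.natCast_val, ZMod.cast_id', id_eq]
  refine hp_ext ?_ ?_ ?_ <;> simp [mul_re, mul_im, mul_c, mkH]
  field_simp
  ring

theorem Heis.map {u1 u2 : G} (K : Heis q u1 u2) (f : G →* H) : Heis q (f u1) (f u2) :=
  ⟨by rw [← map_pow, K.u1_pow, map_one], by rw [← map_pow, K.u2_pow, map_one],
    by rw [← map_commutatorElement]; exact K.z_u1.map f, by rw [← map_commutatorElement]; exact K.z_u2.map f⟩

end Cfsg.Lib.J4NonLocal.Unitary
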