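import Cfsg.Agent.J4NonLocal.Unitary.Build

/-!
From the homomorphism of the model to a copy of the simple unitary group.
-/

set_option autoImplicit false
set_option linter.style.haveILetI false

namespace Cfsg.Lib.J4NonLocal.Unitary

open Cfsg.Lib.SUPres

variable {q : ℕ} [Fact q.Prime] [hns : Fact (∀ r : ZMod q, r ^ 2 ≠ -1 + 0 * r)]
variable {G : Type*} [Group G]

theorem Prim.Rels.exists_psu {D : Prim q} (hq : 3 ≤ q) {u1 u2 t w : G} (R : D.Rels u1 u2 t w) (h1 : u1 ≠ 1) :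
    ∃ K : Subgroup G, K = Subgroup.closure {u1, u2, t, w} ∧ Nonempty (↥K ≃* Cfsg.PSU 3 (Gq q) q) := by
  obtain ⟨φ, hφ1, hφr, hφc⟩ := R.exists_hom
  have hF := card_gq (q := q)
  obtain ⟨f⟩ := exists_equiv hF
  let e : SJ (CG q) ≃* Cfsg.SU 3 (Gq q) q := (MulEquiv.subgroupCongr (congrArg SJ D.cg_eq_std)).trans f
  let ψ : Cfsg.SU 3 (Gq q) q →* G := φ.comp e.symm.toMonoidHom
  have hc : Subgroup.center (Cfsg.SU 3 (Gq q) q) ≤ ψ.ker := fun z hz => by
    refine hφc _ (Subgroup.mem_center_iff.2 fun x => e.injective ?_)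
    simp only [map_mul, MulEquiv.coe_toMonoidHom, MulEquiv.apply_symm_apply]
    exact Subgroup.mem_center_iff.1 hz (e x)
  let χ : Cfsg.PSU 3 (Gq q) q →* G := QuotientGroup.lift _ ψ hc
  haveI : IsSimpleGroup (Cfsg.PSU 3 (Gq q) q) := Cfsg.Agent.S0283.result hF 3 le_rfl (by omega)
  have hinj : Function.Injective χ := by
    rw [← MonoidHom.ker_eq_bot_iff]
    rcases (MonoidHom.normal_ker χ).eq_bot_or_eq_top with h | h
    · exact h
    · exfalso
      have : χ (QuotientGroup.mk (e (uM _ p1))) = 1 := by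
        rw [← MonoidHom.mem_ker, h]; trivial
      simp only [χ, QuotientGroup.lift_mk, ψ, MonoidHom.comp_apply, MulEquiv.coe_toMonoidHom,
        MulEquiv.symm_apply_apply] at this
      exact h1 (hφ1.symm.trans this)
  refine ⟨_, rfl, ⟨((MonoidHom.ofInjective hinj).trans (MulEquiv.subgroupCongr ?_)).symm⟩⟩
  rw [← hφr]
  ext x
  constructor
  · rintro ⟨y, rfl⟩
    obtain ⟨z, rfl⟩ := QuotientGroup.mk_surjective y
    exact ⟨e.symm z, rfl⟩
  · rintro ⟨z, rfl⟩
    exact ⟨QuotientGroup.mk (e z), congrArg φ (e.symm_apply_apply z)⟩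

end Cfsg.Lib.J4NonLocal.Unitary
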